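import Groth.Agent.L12.ExtSh.Extension
import Groth.Agent.L22.C1.Iso
import Groth.Agent.L18.KRRAmple
import Groth.Agent.L12.FinCov.Frame
import Groth.Agent.L20.ModStalk
import Groth.Agent.L17.PullBasis

/-!
The ideal of the zero scheme of a section of a locally free module, point by point.
-/

set_option autoImplicit false
set_option linter.style.haveILetI false
set_option backward.isDefEq.respectTransparency.types false
set_option backward.isDefEq.respectTransparency false

universe u

open CategoryTheory CategoryTheory.Limits AlgebraicGeometry TopologicalSpace Opposite IsLocalRing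
open Groth.L18.Frame (rs ro)
open Groth.L19.ProjBdl (lc lc_coord coord IsBasisOn)

noncomputable section

namespace Groth.L22.ZeroLocus

variable {X : Scheme.{u}} {E : X.Modules} {U : X.Opens} {r : ℕ}

/-- The germ of a global section. -/
abbrev gm (s : Γ(E, ⊤)) (x : X) : E.presheaf.stalk x := E.presheaf.germ ⊤ x trivial s

/-- The values of the linear forms on the germ of a section. -/
def zIdeal (s : Γ(E, ⊤)) (x : X) : Ideal (X.presheaf.stalk x) :=
  LinearMap.range (Module.Dual.eval (X.presheaf.stalk x) (E.presheaf.stalk x) (gm s x))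

/-- The germs of a basis form a basis. -/
def stalkBasis {b : Fin r → Γ(E, U)} (hb : IsBasisOn E U b) {x : X} (hx : x ∈ U) :
    Module.Basis (Fin r) (X.presheaf.stalk x) (E.presheaf.stalk x) :=
  Module.Basis.ofEquivFun (LinearEquiv.ofBijective (Fintype.linearCombination (X.presheaf.stalk x)
    fun j => (E.presheaf.germ U x hx (b j) : E.presheaf.stalk x))
    (Groth.L17.PullBasis.bijective_stalk E b hb.locBases x hx)).symm

theorem stalkBasis_apply {b : Fin r → Γ(E, U)} (hb : IsBasisOn E U b) {x : X} (hx : x ∈ U) (j : Fin r) :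
    stalkBasis hb hx j = E.presheaf.germ U x hx (b j) := by
  classical
  rw [stalkBasis, Module.Basis.coe_ofEquivFun, LinearEquiv.symm_symm]
  show LinearEquiv.ofBijective _ _ (Pi.single j 1) = _
  rw [LinearEquiv.ofBijective_apply, Fintype.linearCombination_apply_single, one_smul]

/-- The values of the linear forms are spanned by the coordinates. -/
theorem zIdeal_eq_span_repr (s : Γ(E, ⊤)) {x : X} (B : Module.Basis (Fin r) (X.presheaf.stalk x) (E.presheaf.stalk x)) :
    zIdeal s x = Ideal.span (Set.range fun j => B.repr (gm s x) j) := by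
  refine le_antisymm ?_ (Ideal.span_le.2 ?_)
  · intro z hz
    obtain ⟨φ, rfl⟩ := hz
    show φ (gm s x) ∈ _
    conv =>
      arg 2
      rw [← B.sum_repr (gm s x)]
    rw [map_sum]
    refine Ideal.sum_mem _ fun j _ => ?_
    rw [map_smul, smul_eq_mul]
    exact Ideal.mul_mem_right _ _ (Ideal.subset_span ⟨j, rfl⟩)
  · rintro _ ⟨j, rfl⟩
    exact ⟨B.coord j, rfl⟩

/-- The coordinates of a section at a point. -/
theorem repr_stalkBasis (s : Γ(E, ⊤)) {b : Fin r → Γ(E, U)} (hb : IsBasisOn E U b) {x : X} (hx : x ∈ U) (j : Fin r) :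
    (stalkBasis hb hx).repr (gm s x) j =
      X.presheaf.germ U x hx (coord hb le_rfl (rs E (le_top : U ≤ ⊤) s) j) := by
  have h := congrArg (E.presheaf.germ U x hx) (lc_coord hb le_rfl (rs E (le_top : U ≤ ⊤) s))
  rw [Groth.L20.ModStalk.germ_rs, lc, map_sum] at h
  have e : (∑ i, X.presheaf.germ U x hx (coord hb le_rfl (rs E (le_top : U ≤ ⊤) s) i) • stalkBasis hb hx i) =
      gm s x := by
    refine Eq.trans (Finset.sum_congr rfl fun i _ => ?_) h
    rw [Groth.L20.ModStalk.germ_smul, Groth.L20.ModStalk.germ_rs, stalkBasis_apply]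
  conv_lhs => rw [← e]
  rw [Module.Basis.repr_sum_self]

theorem zIdeal_eq_span (s : Γ(E, ⊤)) {b : Fin r → Γ(E, U)} (hb : IsBasisOn E U b) {x : X} (hx : x ∈ U) :
    zIdeal s x = Ideal.span (Set.range fun j =>
      X.presheaf.germ U x hx (coord hb le_rfl (rs E (le_top : U ≤ ⊤) s) j)) := by
  rw [zIdeal_eq_span_repr s (stalkBasis hb hx)]
  exact congrArg _ (congrArg _ (funext fun j => repr_stalkBasis s hb hx j))

theorem exists_basis (hE : FlatMod.IsFinLocFree E) (x : X) :
    ∃ (U : X.Opens) (r : ℕ) (b : Fin r → Γ(E, U)), x ∈ U ∧ IsBasisOn E U b := by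
  obtain ⟨U, r, b, -, hxU, -, hb⟩ := Groth.L19.ProjBdl.exists_basisOn hE x ⊤ trivial
  exact ⟨U, r, b, hxU, hb⟩

/-- The ideal is compatible with generization. -/
theorem zIdeal_map (hE : FlatMod.IsFinLocFree E) (s : Γ(E, ⊤)) {y η : X} (h : η ⤳ y) :
    (zIdeal s y).map (X.presheaf.stalkSpecializes h).hom = zIdeal s η := by
  obtain ⟨U, r, b, hy, hb⟩ := exists_basis hE y
  rw [zIdeal_eq_span s hb hy, zIdeal_eq_span s hb (h.mem_open U.2 hy), Ideal.map_span, ← Set.range_comp]
  exact congrArg _ (congrArg _ (funext fun j => X.presheaf.germ_stalkSpecializes_apply hy h _))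

/-- The class in the fibre vanishes exactly when the ideal is proper. -/
theorem mk_gm_eq_zero_iff (hE : FlatMod.IsFinLocFree E) (s : Γ(E, ⊤)) (x : X) :
    (Submodule.Quotient.mk (gm s x) : Cyc.secFibre E x) = 0 ↔ zIdeal s x ≤ maximalIdeal (X.presheaf.stalk x) := by
  rw [Submodule.Quotient.mk_eq_zero]
  constructor
  · rintro h _ ⟨φ, rfl⟩
    show φ (gm s x) ∈ _
    have h' := Submodule.mem_map_of_mem (f := φ) h
    rw [Submodule.map_smul''] at h'
    exact (Submodule.smul_le.2 fun r hr v _ => by rw [smul_eq_mul]; exact Ideal.mul_mem_right v _ hr) h'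
  · intro h
    obtain ⟨U, r, b, hx, hb⟩ := exists_basis hE x
    let B := stalkBasis hb hx
    rw [← B.sum_repr (gm s x)]
    exact Submodule.sum_mem _ fun j _ => Submodule.smul_mem_smul (h ⟨B.coord j, rfl⟩) trivial

/-- The locus where the section vanishes is closed under specialization. -/
theorem zIdeal_le_of_specializes (hE : FlatMod.IsFinLocFree E) (s : Γ(E, ⊤)) {y η : X} (h : η ⤳ y)
    (hη : zIdeal s η ≤ maximalIdeal (X.presheaf.stalk η)) : zIdeal s y ≤ maximalIdeal (X.presheaf.stalk y) := by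
  refine le_maximalIdeal fun e => (maximalIdeal.isMaximal (X.presheaf.stalk η)).ne_top (eq_top_iff.2 ?_)
  rw [← zIdeal_map hE s h, e, Ideal.map_top] at hη
  exact hη

section Ext

variable {L F : X.Modules} {a : L ⟶ E} {φ : E ⟶ F} {hab : a ≫ φ = 0}

/-- Coordinates adapted to an extension by an invertible module. -/
theorem exists_adapted (hex : (ShortComplex.mk a φ hab).ShortExact) (hL : PicF.IsInvertible L)
    (hF : FlatMod.IsFinLocFree F) (s : Γ(E, ⊤)) (y : X) :
    ∃ (U : X.Opens) (e : Γ(L, U)) (f : Γ(X, U)), y ∈ U ∧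
      ∀ (x : X) (hx : x ∈ U), Groth.L22.C1.IsGen L (L.presheaf.germ U x hx e) ∧
        zIdeal s x = zIdeal (φ.app ⊤ s) x ⊔ Ideal.span {X.presheaf.germ U x hx f} ∧
        (zIdeal (φ.app ⊤ s) x ≤ maximalIdeal (X.presheaf.stalk x) →
          (Submodule.Quotient.mk (gm s x) : Cyc.secFibre E x) =
            X.presheaf.germ U x hx f • Groth.L22.C1.mapSec a x (Groth.L22.C1.mk L (L.presheaf.germ U x hx e))) := by
  obtain ⟨W, e₀, hyW, he₀⟩ := Groth.L18.Frame.exists_frame hL y
  obtain ⟨V₃, q, c, -, hy₃, hV₃, hc⟩ := Groth.L19.ProjBdl.exists_basisOn hF y W hyW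
  choose V hV σ hyV hσ using fun k : Fin q => Groth.L03.SurfAdj.exists_lift hex (c k) hy₃
  let U : X.Opens := V₃ ⊓ ⟨⋂ k, (V k : Set X), isOpen_iInter_of_finite fun k => (V k).2⟩
  have hU3 : U ≤ V₃ := inf_le_left
  have hUk : ∀ k, U ≤ V k := fun k => le_trans inf_le_right fun z hz => Set.mem_iInter.1 hz k
  let a₀ : Fin 1 → Γ(L, U) := fun _ => rs L (hU3.trans hV₃) e₀
  let τ : Fin q → Γ(E, U) := fun k => rs E (hUk k) (σ k)
  have ha₀ : IsBasisOn L U a₀ := fun Z hZ => by
    have hb := he₀ Z (hZ.trans (hU3.trans hV₃))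
    refine ⟨fun c c' h => funext fun i => ?_, fun m => ?_⟩
    · obtain rfl : i = 0 := Subsingleton.elim _ _
      simp only [lc, Fin.sum_univ_one, a₀, Groth.L18.Frame.rs_rs] at h
      exact hb.1 h
    · obtain ⟨z, hz⟩ := hb.2 m
      refine ⟨fun _ => z, ?_⟩
      simp only [lc, Fin.sum_univ_one, a₀, Groth.L18.Frame.rs_rs]
      exact hz
  have hτ : IsBasisOn F U fun k => φ.app U (τ k) := by
    have he : (fun k => φ.app U (τ k)) = fun k => rs F hU3 (c k) := funext fun k => by
      refine (PresheafOfModules.naturality_apply φ.val (homOfLE (hUk k)).op (σ k)).trans ?_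
      refine (congrArg (rs F (hUk k)) (hσ k)).trans ?_
      rw [Groth.L18.Frame.rs_rs]
    rw [he]
    exact hc.mono hU3
  have hb := Groth.L12.ExtSh.isBasisOn_append hex ha₀ hτ
  let cs := coord hb le_rfl (rs E (le_top : U ≤ ⊤) s)
  have hF' : coord hτ le_rfl (rs F (le_top : U ≤ ⊤) (φ.app ⊤ s)) = fun k => cs (Fin.natAdd 1 k) := by
    refine Groth.L19.ProjBdl.coord_eq hτ _ ?_
    have h := congrArg (φ.app U) (lc_coord hb le_rfl (rs E (le_top : U ≤ ⊤) s))
    rw [Groth.L19.ProjBdl.app_rs, Groth.L19.ProjBdl.app_lc, lc, Fin.sum_univ_add] at h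
    refine Eq.trans ?_ h
    simp only [Fin.append_left, Fin.append_right, Fin.sum_univ_one]
    have hz : φ.app U (a.app U (a₀ 0)) = 0 := by
      have := congrArg (fun f => Scheme.Modules.Hom.app f U (a₀ 0)) hab
      exact this
    rw [hz]
    simp [lc]
    rfl
  refine ⟨U, a₀ 0, cs (Fin.castAdd q 0), ⟨hy₃, Set.mem_iInter.2 hyV⟩, fun x hx => ?_⟩
  have hgen : Groth.L22.C1.IsGen L (L.presheaf.germ U x hx (a₀ 0)) := by
    rw [show a₀ 0 = rs L (hU3.trans hV₃) e₀ from rfl, Groth.L20.ModStalk.germ_rs]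
    exact Groth.L22.C1.isGen_germ he₀ (hV₃ (hU3 hx))
  have hIF : zIdeal (φ.app ⊤ s) x = Ideal.span (Set.range fun k => X.presheaf.germ U x hx (cs (Fin.natAdd 1 k))) := by
    rw [zIdeal_eq_span (φ.app ⊤ s) hτ hx, hF']
  refine ⟨hgen, ?_, fun hle => ?_⟩
  · rw [zIdeal_eq_span s hb hx, hIF]
    refine le_antisymm (Ideal.span_le.2 ?_) (sup_le (Ideal.span_le.2 ?_) (Ideal.span_le.2 ?_))
    · rintro _ ⟨j, rfl⟩
      refine Fin.addCases (fun i => ?_) (fun k => ?_) j
      · obtain rfl : i = 0 := Subsingleton.elim _ _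
        exact Ideal.mem_sup_right (Ideal.subset_span rfl)
      · exact Ideal.mem_sup_left (Ideal.subset_span ⟨k, rfl⟩)
    · rintro _ ⟨k, rfl⟩; exact Ideal.subset_span ⟨_, rfl⟩
    · rintro _ rfl; exact Ideal.subset_span ⟨_, rfl⟩
  · rw [hIF] at hle
    rw [Groth.L22.C1.mapSec_mk, Groth.L22.C1.stMap_germ, Groth.L22.C1.mk, ← Submodule.Quotient.mk_smul,
      Submodule.Quotient.eq]
    have h := congrArg (E.presheaf.germ U x hx) (lc_coord hb le_rfl (rs E (le_top : U ≤ ⊤) s))
    rw [Groth.L20.ModStalk.germ_rs, lc, Fin.sum_univ_add, map_add, map_sum, map_sum, Fin.sum_univ_one] at h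
    rw [show gm s x = E.presheaf.germ ⊤ x trivial s from rfl, ← h, Groth.L18.Frame.rs_self, Groth.L20.ModStalk.germ_smul,
      Fin.append_left, add_sub_cancel_left]
    refine Submodule.sum_mem _ fun k _ => ?_
    rw [Groth.L20.ModStalk.germ_smul]
    exact Submodule.smul_mem_smul (hle (Ideal.subset_span ⟨k, rfl⟩)) trivial

/-- The map on fibres of a split injection is injective on the generator. -/
theorem mapSec_gen_ne_zero (hex : (ShortComplex.mk a φ hab).ShortExact) (hL : PicF.IsInvertible L)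
    (hF : FlatMod.IsFinLocFree F) (hE : FlatMod.IsFinLocFree E) (x : X) {v : Cyc.secFibre L x} (hv : v ≠ 0) :
    Groth.L22.C1.mapSec a x v ≠ 0 := by
  obtain ⟨U, p, q, a₀, σ, hxU, -, ha, hσ⟩ :=
    Groth.L12.ExtSh.exists_split_bases hex (Groth.L18.KRRAmple.isFinLocFree_of_rank
      (Groth.L12.FinCov.isFinLocFreeOfRank_one_of_isInvertible hL)) hF x ⊤ trivial
  have hb := Groth.L12.ExtSh.isBasisOn_append hex ha hσ
  obtain ⟨w, rfl⟩ := Submodule.mkQ_surjective _ v
  intro h0
  refine hv ?_
  have hw := (stalkBasis ha hxU).sum_repr w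
  rw [Submodule.mkQ_apply, Groth.L22.C1.mapSec_mk, Groth.L22.C1.mk, Submodule.Quotient.mk_eq_zero] at h0
  rw [Submodule.mkQ_apply, Submodule.Quotient.mk_eq_zero, ← hw]
  refine Submodule.sum_mem _ fun i _ => Submodule.smul_mem_smul ?_ trivial
  have e : (stalkBasis hb hxU).coord (Fin.castAdd q i) (Groth.L22.C1.stMap a x w) = (stalkBasis ha hxU).repr w i := by
    conv_lhs => rw [← hw, map_sum]
    simp only [map_smul, stalkBasis_apply, Groth.L22.C1.stMap_germ]
    simp only [map_sum, map_smul, smul_eq_mul]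
    rw [Finset.sum_eq_single i]
    · rw [show E.presheaf.germ U.1 x hxU (a.app U.1 (a₀ i)) = stalkBasis hb hxU (Fin.castAdd q i) by
        rw [stalkBasis_apply, Fin.append_left], Module.Basis.coord_apply, Module.Basis.repr_self,
        Finsupp.single_eq_same, mul_one]
    · intro j _ hji
      rw [show E.presheaf.germ U.1 x hxU (a.app U.1 (a₀ j)) = stalkBasis hb hxU (Fin.castAdd q j) by
        rw [stalkBasis_apply, Fin.append_left], Module.Basis.coord_apply, Module.Basis.repr_self,
        Finsupp.single_eq_of_ne (fun h => hji ((Fin.castAdd_injective _ _) h).symm), mul_zero]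
    · simp
  rw [← e]
  have h1 := Submodule.mem_map_of_mem (f := (stalkBasis hb hxU).coord (Fin.castAdd q i)) h0
  rw [Submodule.map_smul''] at h1
  exact (Submodule.smul_le.2 fun r hr v _ => by rw [smul_eq_mul]; exact Ideal.mul_mem_right v _ hr) h1

end Ext

end Groth.L22.ZeroLocus
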