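import Groth.Agent.L22.ZeroLocus.Locus
import Groth.Agent.L22.Chern.Pull
import Groth.Agent.L22.Cyc.RelDim

/-!
The top Chern class of a module with a regular section is the class of the zero scheme.
-/

set_option autoImplicit false
set_option linter.style.haveILetI false
set_option linter.unusedSectionVars false
set_option maxHeartbeats 800000
set_option backward.isDefEq.respectTransparency.types false
set_option backward.isDefEq.respectTransparency false

universe u

open CategoryTheory CategoryTheory.Limits AlgebraicGeometry TopologicalSpace IsLocalRing RingTheory.Sequence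
open Groth.L22.Chern (emb C pb pb_emb pullC)
open Groth.L22.Cyc (FibGen mult)
open Groth.L18.Frame (rs ro pull pull_rs pull_smul)
open Groth.L19.ProjBdl (lc lc_coord coord coord_eq IsBasisOn)

noncomputable section

namespace Groth.L22.ZeroLocus

section Pull

variable {X P : Scheme.{u}} {E : X.Modules} (π : P ⟶ X)

/-- The ideal of a pulled back section. -/
theorem zIdeal_pull (hE : FlatMod.IsFinLocFree E) (s : Γ(E, ⊤)) (x : P) :
    zIdeal (E := (Scheme.Modules.pullback π).obj E) (pull π E ⊤ s) x = (zIdeal s (π x)).map (π.stalkMap x).hom := by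
  obtain ⟨U, r, b, hxU, hb⟩ := exists_basis hE (π x)
  let hb' := hb.pullback π
  have hx' : x ∈ π ⁻¹ᵁ U := hxU
  rw [zIdeal_eq_span s hb hxU, zIdeal_eq_span _ hb' hx', Ideal.map_span, ← Set.range_comp]
  have hc : coord hb' le_rfl (rs ((Scheme.Modules.pullback π).obj E) (le_top : π ⁻¹ᵁ U ≤ ⊤) (pull π E ⊤ s)) =
      fun j => π.app U (coord hb le_rfl (rs E (le_top : U ≤ ⊤) s) j) := by
    refine coord_eq hb' _ ?_
    have h1 : rs ((Scheme.Modules.pullback π).obj E) (π.preimage_mono (le_top : U ≤ ⊤)) (pull π E ⊤ s) =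
        pull π E U (rs E le_top s) := pull_rs π E le_top s
    refine Eq.trans ?_ h1.symm
    conv_rhs => rw [← lc_coord hb le_rfl (rs E (le_top : U ≤ ⊤) s)]
    show _ = ((Scheme.Modules.pullbackPushforwardAdjunction π).unit.app E).app U (∑ i, _)
    rw [map_sum]
    refine Finset.sum_congr rfl fun i _ => ?_
    rw [Groth.L18.Frame.rs_self, Groth.L18.Frame.rs_self]
    exact (pull_smul π E _ _).symm
  rw [hc]
  exact congrArg _ (congrArg _ (funext fun j => (Scheme.Hom.germ_stalkMap_apply π U x hxU _).symm))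

variable [IsLocallyNoetherian P] [LocallyOfFiniteType π] [Flat π] {d : ℕ} (hr : Cyc.HasRelDim π d)
  {δ : X → ℤ} {δP : P → ℤ} (hdP : Cyc.IsDimFun P δP) (hc : Cyc.DeltaCompat π δP δ)

include hr hdP hc in
/-- The dimension function over a point. -/
theorem delta_fibre (x : P) : δP x ≤ δ (π x) + (d : ℤ) ∧ (δP x = δ (π x) + (d : ℤ) → FibGen π x) := by
  obtain ⟨y, hy, hyx, hg⟩ := Groth.L22.Cyc.exists_fibGen π x
  have h := Groth.L22.Cyc.shift_of_deltaCompat π hr hc y hg
  rw [hy] at h
  by_cases e : y = x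
  · subst e; exact ⟨h.le, fun _ => hg⟩
  · have := (hdP y x hyx e).1
    exact ⟨by omega, fun h' => by omega⟩

/-- Lengths multiply along flat morphisms. -/
theorem length_map (x : P) (I : Ideal (X.presheaf.stalk (π x))) :
    Module.length (P.presheaf.stalk x) (P.presheaf.stalk x ⧸ I.map (π.stalkMap x).hom) =
      Module.length (X.presheaf.stalk (π x)) (X.presheaf.stalk (π x) ⧸ I) * mult π x := by
  algebraize [(π.stalkMap x).hom]
  haveI : Module.Flat (X.presheaf.stalk (π x)) (P.presheaf.stalk x) := Flat.stalkMap π x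
  haveI : IsLocalHom (algebraMap (X.presheaf.stalk (π x)) (P.presheaf.stalk x)) := π.toLRSHom.prop x
  exact Groth.L22.Cyc.length_quotient_map I

/-- Regular sections pull back to regular sections. -/
theorem Good.pullback (hE : FlatMod.IsFinLocFree E) {s : Γ(E, ⊤)} {x : P} {r : ℕ} (h : Good s (π x) r) :
    Good (E := (Scheme.Modules.pullback π).obj E) (pull π E ⊤ s) x r := by
  obtain ⟨fs, h1, h2, h3, h4⟩ := h
  refine ⟨fs.map (π.stalkMap x).hom, ?_, fun f hf => ?_, by simpa using h3, ?_⟩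
  · algebraize [(π.stalkMap x).hom]
    haveI : Module.Flat (X.presheaf.stalk (π x)) (P.presheaf.stalk x) := Flat.stalkMap π x
    exact h1.of_flat
  · obtain ⟨g, hg, rfl⟩ := List.mem_map.1 hf
    have hle : (maximalIdeal (X.presheaf.stalk (π x))).map (π.stalkMap x).hom ≤ maximalIdeal (P.presheaf.stalk x) :=
      Groth.L22.Cyc.fibIdeal_le π x
    exact hle (Ideal.mem_map_of_mem _ (h2 g hg))
  · rw [zIdeal_pull π hE, ← h4, Ideal.map_ofList]

end Pull

variable {X : Scheme.{u}} {δ : X → ℤ}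

theorem zeroScheme_val {Z : Scheme.{u}} (i : Z ⟶ X) [IsClosedImmersion i] (k : ℤ) (z : Z) (hz : δ (i z) = k) :
    Cyc.subschemeFun δ k i (i z) =
      ((Module.length (X.presheaf.stalk (i z)) (X.presheaf.stalk (i z) ⧸ RingHom.ker (i.stalkMap z).hom)).toNat : ℤ) := by
  rw [Cyc.subschemeFun, if_pos hz, show {z' : Z | i z' = i z} = {z} from
    Set.ext fun z' => ⟨fun h => i.isClosedEmbedding.injective h, fun h => by rw [Set.mem_singleton_iff.1 h]; rfl⟩,
    finsum_mem_singleton]
  letI := (i.stalkMap z).hom.toAlgebra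
  have hs : Function.Surjective (algebraMap (X.presheaf.stalk (i z)) (Z.presheaf.stalk z)) := i.stalkMap_surjective z
  congr 2
  refine Eq.trans (Module.length_eq_of_surjective (R := Z.presheaf.stalk z) (S := X.presheaf.stalk (i z)) hs).symm ?_
  exact ((Submodule.quotEquivOfEq (RingHom.ker (i.stalkMap z).hom) _ (by rfl)).trans
    ((Algebra.linearMap (X.presheaf.stalk (i z)) (Z.presheaf.stalk z)).quotKerEquivOfSurjective hs)).length_eq.symm

/-- The top Chern class is the class of the zero scheme. -/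
theorem C_top_eq (hX : Cyc.IsSetup X δ) {r : ℕ} {E : X.Modules} (hE : FlatMod.IsFinLocFreeOfRank r E) {n : ℤ}
    (hn : ∀ x, δ x ≤ n) (s : Γ(E, ⊤)) {Z : Scheme.{u}} (i : Z ⟶ X) [IsClosedImmersion i]
    (hZ1 : ∀ x, x ∈ Set.range i ↔ zIdeal s x ≤ maximalIdeal (X.presheaf.stalk x))
    (hZ2 : ∀ z : Z, RingHom.ker (i.stalkMap z).hom = zIdeal s (i z))
    (hZ3 : ∀ z : Z, δ (i z) ≤ n - (r : ℤ))
    (hZ4 : ∀ z : Z, δ (i z) = n - (r : ℤ) → Good s (i z) r)
    {α : AlgebraicCycle X ℤ} (hα : ⇑α = Cyc.subschemeFun δ n (𝟙 X))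
    {ζ : AlgebraicCycle X ℤ} (hζ : ⇑ζ = Cyc.subschemeFun δ (n - (r : ℤ)) i) :
    C hX hE r (emb δ n α) = emb δ (n - (r : ℤ)) ζ := by
  haveI := hX.1
  have hEf := Groth.L18.KRRAmple.isFinLocFree_of_rank hE
  obtain ⟨P, π, d, δP, hπ, hPs, hc, hS⟩ := Groth.L22.Chern.exists_split_one r hX hE
  obtain ⟨ls, hl, hfl⟩ := hS.exists_flag
  haveI := hπ.proper
  haveI := hπ.flat
  haveI := hPs.1
  have hs := Groth.L22.Cyc.shift_of_deltaCompat π hπ.relDim hc
  have hfib := delta_fibre π hπ.relDim hPs.2.2 hc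
  have hαm : α ∈ Cyc.Zk X δ n := fund_mem hα
  have hζm : ζ ∈ Cyc.Zk X δ (n - (r : ℤ)) := fun x hx => by
    rw [hζ]
    exact if_neg hx
  have hnP : ∀ x, δP x ≤ n + (d : ℤ) := fun x => by
    have := (hfib x).1
    have := hn (π x)
    omega
  have hαP : ⇑(pullC π hs α) = Cyc.subschemeFun δP (n + (d : ℤ)) (𝟙 P) := funext fun x => by
    rw [Groth.L22.C1.subschemeFun_id]
    by_cases hx : δP x = n + (d : ℤ)
    · have h1 := (hfib x).1
      have h2 := hn (π x)
      rw [if_pos hx, Groth.L22.Chern.pullC_apply, hα, Groth.L22.C1.subschemeFun_id, if_pos (by omega),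
        ← Nat.cast_mul, ← ENat.toNat_mul]
      have h := length_map π x ⊥
      rw [Ideal.map_bot, (Submodule.quotEquivOfEqBot (⊥ : Submodule (P.presheaf.stalk x) (P.presheaf.stalk x)) rfl).length_eq,
        (Submodule.quotEquivOfEqBot (⊥ : Submodule (X.presheaf.stalk (π x)) (X.presheaf.stalk (π x))) rfl).length_eq] at h
      rw [h]
    · rw [if_neg hx]
      exact Groth.L22.Chern.pullC_mem π hs hαm x hx
  obtain ⟨B, hBm, hBC, hBs, hBv⟩ := exists_locus hnP hPs hαP hfl (pull π E ⊤ s)
  rw [hl] at hBm hBv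
  have hB : B = pullC π hs ζ := by
    ext z
    by_cases hz : δP z = n + (d : ℤ) - (r : ℕ)
    swap
    · rw [hBm z hz, Groth.L22.Chern.pullC_mem π hs hζm z (by omega)]
    by_cases hzZ : π z ∈ Set.range i
    · obtain ⟨w, hw⟩ := hzZ
      have h1 := (hfib z).1
      have h2 := hZ3 w
      rw [hw] at h2
      have hδ : δ (π z) = n - (r : ℤ) := by omega
      have hgood : Good s (π z) r := hw ▸ hZ4 w (by rw [hw]; exact hδ)
      have hval : ζ (π z) =
          ((Module.length (X.presheaf.stalk (π z)) (X.presheaf.stalk (π z) ⧸ zIdeal s (π z))).toNat : ℤ) := by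
        rw [← hw, hζ, zeroScheme_val i _ w (by rw [hw]; exact hδ), hZ2]
      rw [hBv z hz (hgood.pullback π hEf), zIdeal_pull π hEf, length_map π z, ENat.toNat_mul, Nat.cast_mul,
        Groth.L22.Chern.pullC_apply, hval]
    · have hB0 : B z = 0 := by
        by_contra h
        refine hzZ ((hZ1 (π z)).2 ?_)
        have h' := hBs z h
        rw [zIdeal_pull π hEf, Ideal.map_le_iff_le_comap] at h'
        exact h'.trans (le_maximalIdeal (Ideal.comap_ne_top _ (maximalIdeal.isMaximal _).ne_top))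
      rw [hB0, Groth.L22.Chern.pullC_apply, hζ, Cyc.subschemeFun]
      split_ifs
      · rw [show {w : Z | i w = π z} = ∅ from Set.eq_empty_iff_forall_notMem.2 fun w hw => hzZ ⟨w, hw⟩,
          finsum_mem_empty, zero_mul]
      · rw [zero_mul]
  refine Groth.L22.Chern.pb_injective_of_inj π hX hPs hπ.inj hc hs ?_
  rw [Groth.L22.Chern.over'_C π hX hPs hπ.relDim hc hE r (emb δ n α), pb_emb _ _ π hs hαm, pb_emb _ _ π hs hζm, ← hB]
  subst hl
  rw [show n - (ls.length : ℤ) + (d : ℤ) = n + (d : ℤ) - (ls.length : ℕ) by ring]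
  exact hBC

end Groth.L22.ZeroLocus
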