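import Groth.Agent.S2083
import Groth.Agent.L04.CMBasic
import Groth.Agent.L22.IntMult.SheafFormula
import Groth.Agent.L22.C1.ZeroSection
import Mathlib.RingTheory.Regular.Flat
import Mathlib.RingTheory.KrullDimension.Regular

/-!
Systems of parameters made of the values of a regular section.
-/

set_option autoImplicit false
set_option linter.style.haveILetI false
set_option maxSynthPendingDepth 3
set_option backward.isDefEq.respectTransparency false

universe u

open CategoryTheory AlgebraicGeometry IsLocalRing RingTheory.Sequence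

noncomputable section

namespace Groth.L22.ZeroLocus

section Ring

variable {R : Type u} [CommRing R] [IsLocalRing R] [IsNoetherianRing R]

theorem supportDim_le_length : ∀ (gs : List R) (M : Type u) [AddCommGroup M] [Module R M] [Module.Finite R M],
    (∀ g ∈ gs, g ∈ maximalIdeal R) →
      Module.supportDim R (M ⧸ Ideal.ofList gs • (⊤ : Submodule R M)) ≤ 0 →
        Module.supportDim R M ≤ (gs.length : ℕ)
  | [], M, _, _, _, _, h => by
    rw [Module.supportDim_eq_of_equiv (Submodule.quotEquivOfEqBot (Ideal.ofList ([] : List R) • ⊤ : Submodule R M)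
      (by rw [Ideal.ofList_nil, Submodule.bot_smul]))] at h
    simpa using h
  | g :: gs, M, _, _, _, hg, h => by
    rw [Module.supportDim_eq_of_equiv (Submodule.quotOfListConsSMulTopEquivQuotSMulTopInner M g gs)] at h
    have h1 := supportDim_le_length gs (QuotSMulTop g M) (fun a ha => hg a (List.mem_cons_of_mem g ha)) h
    refine (Module.supportDim_le_supportDim_quotSMulTop_succ (hg g List.mem_cons_self)).trans ?_
    rw [List.length_cons, Nat.cast_add, Nat.cast_one]
    exact add_le_add h1 le_rfl

/-- A system of parameters of a Cohen–Macaulay module is a regular sequence. -/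
theorem isWeaklyRegular_of_sop : ∀ (gs : List R) (M : Type u) [AddCommGroup M] [Module R M] [Module.Finite R M],
    LocCoh.IsCohenMacaulayModule R M → Module.supportDim R M = (gs.length : ℕ) →
      (∀ g ∈ gs, g ∈ maximalIdeal R) →
        Module.supportDim R (M ⧸ Ideal.ofList gs • (⊤ : Submodule R M)) ≤ 0 → IsWeaklyRegular M gs
  | [], M, _, _, _, _, _, _, _ => IsWeaklyRegular.nil R M
  | g :: gs, M, _, _, _, hM, hd, hg, h => by
    rw [Module.supportDim_eq_of_equiv (Submodule.quotOfListConsSMulTopEquivQuotSMulTopInner M g gs)] at h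
    have hg' : ∀ a ∈ gs, a ∈ maximalIdeal R := fun a ha => hg a (List.mem_cons_of_mem g ha)
    have h1 := supportDim_le_length gs (QuotSMulTop g M) hg' h
    have h2 := Module.supportDim_le_supportDim_quotSMulTop_succ (M := M) (hg g List.mem_cons_self)
    rw [hd, List.length_cons, Nat.cast_add, Nat.cast_one] at h2
    have h3 : Module.supportDim R (QuotSMulTop g M) = (gs.length : ℕ) := by
      refine le_antisymm h1 ?_
      generalize Module.supportDim R (QuotSMulTop g M) = v at h2
      cases v with
      | bot =>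
        rw [WithBot.bot_add] at h2
        exact absurd (le_bot_iff.1 h2) (by exact_mod_cast WithBot.coe_ne_bot)
      | coe v =>
        have h2' : ((gs.length : ℕ∞) + 1) ≤ v + 1 := by exact_mod_cast h2
        exact_mod_cast (ENat.addLECancellable_of_ne_top (by simp)).add_le_add_iff_right.1 h2'
    let e : (M ⧸ Ideal.span {g} • (⊤ : Submodule R M)) ≃ₗ[R] QuotSMulTop g M :=
      Submodule.quotEquivOfEq _ _ (Submodule.ideal_span_singleton_smul g ⊤)
    have hdim : Module.supportDim R (M ⧸ Ideal.span {g} • (⊤ : Submodule R M)) + 1 = Module.supportDim R M := by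
      rw [Module.supportDim_eq_of_equiv e, h3, hd, List.length_cons, Nat.cast_add, Nat.cast_one]
    obtain ⟨r1, r2, -⟩ := Groth.Agent.S2083.result hM g (hg g List.mem_cons_self) hdim
    have hcm : LocCoh.IsCohenMacaulayModule R (QuotSMulTop g M) := by
      have hde : LocCoh.depth R (M ⧸ Ideal.span {g} • (⊤ : Submodule R M)) = LocCoh.depth R (QuotSMulTop g M) :=
        Groth.L04.idealDepth_congr e
      rw [LocCoh.IsCohenMacaulayModule, ← hde, ← Module.supportDim_eq_of_equiv e]
      exact r2
    exact (isWeaklyRegular_cons_iff M g gs).2 ⟨r1, isWeaklyRegular_of_sop gs (QuotSMulTop g M) hcm h3 hg' h⟩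

/-- Generators, as many as the dimension, of an ideal generated by a regular sequence of that length. -/
theorem sop_of_regular {r : ℕ} {fs gs : List R} (hdim : ringKrullDim R ≤ (r : ℕ)) (hfs : IsWeaklyRegular R fs)
    (hf : ∀ f ∈ fs, f ∈ maximalIdeal R) (hfl : fs.length = r) (hgl : gs.length = r)
    (he : Ideal.ofList gs = Ideal.ofList fs) : IsWeaklyRegular R gs ∧ ringKrullDim R = (r : ℕ) := by
  have hg : ∀ g ∈ gs, g ∈ maximalIdeal R := fun g hgm => by
    have h1 : g ∈ Ideal.ofList gs := Ideal.subset_span hgm
    rw [he] at h1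
    exact (Ideal.span_le (s := {a | a ∈ fs})).2 hf h1
  have h0 := Groth.L04.supportDim_quotient_ofList_add (M := R) hfs hf
  rw [Module.supportDim_self_eq_ringKrullDim, hfl] at h0
  have hdep : (r : ℕ∞) ≤ LocCoh.depth R R := hfl ▸ Groth.L04.length_le_idealDepth hfs hf
  have hcm : LocCoh.IsCohenMacaulayModule R R := by
    rw [Groth.L04.isCohenMacaulayModule_iff_supportDim_le, Module.supportDim_self_eq_ringKrullDim]
    exact hdim.trans (WithBot.coe_le_coe.2 hdep)
  have heq : ringKrullDim R = (r : ℕ) := by
    refine le_antisymm hdim ?_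
    rw [← Module.supportDim_self_eq_ringKrullDim, hcm]
    exact WithBot.coe_le_coe.2 hdep
  refine ⟨isWeaklyRegular_of_sop gs R hcm (by rw [Module.supportDim_self_eq_ringKrullDim, heq, hgl]) hg ?_, heq⟩
  rw [he]
  rw [heq] at h0
  generalize Module.supportDim R (R ⧸ Ideal.ofList fs • (⊤ : Submodule R R)) = v at h0
  cases v with
  | bot => exact bot_le
  | coe v =>
    have h0' : v + (r : ℕ∞) = r := by exact_mod_cast h0
    have hv : v = 0 := by
      refine (ENat.addLECancellable_of_ne_top (ENat.natCast_ne_top r)).inj_left.1 ?_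
      rw [h0', zero_add]
    rw [hv]
    rfl

/-- A regular sequence of the maximal ideal bounds the dimension from below. -/
theorem length_le_dim {fs : List R} (hfs : IsWeaklyRegular R fs) (hf : ∀ f ∈ fs, f ∈ maximalIdeal R) :
    ((fs.length : ℕ) : WithBot ℕ∞) ≤ ringKrullDim R := by
  rw [← Module.supportDim_self_eq_ringKrullDim, ← Groth.L04.supportDim_quotient_ofList_add (M := R) hfs hf]
  refine le_add_of_nonneg_left ?_
  have hne : Module.supportDim R (R ⧸ Ideal.ofList fs • (⊤ : Submodule R R)) ≠ ⊥ := fun h => by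
    have := Groth.L04.supportDim_quotient_ofList_add (M := R) hfs hf
    rw [h, WithBot.bot_add] at this
    exact (Module.supportDim_ne_bot_iff_nontrivial R R).2 inferInstance this.symm
  obtain ⟨v, hv⟩ := WithBot.ne_bot_iff_exists.1 hne
  rw [← hv]
  exact WithBot.coe_le_coe.2 zero_le

end Ring

section Stalk

variable {X : Scheme.{u}}

theorem isWeaklyRegular_specializes [IsLocallyNoetherian X] {η y : X} (h : η ⤳ y) {gs : List (X.presheaf.stalk y)}
    (hgs : IsWeaklyRegular (X.presheaf.stalk y) gs)
    (hm : ∀ g ∈ gs, X.presheaf.stalkSpecializes h g ∈ maximalIdeal (X.presheaf.stalk η)) :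
    IsWeaklyRegular (X.presheaf.stalk η) (gs.map (X.presheaf.stalkSpecializes h).hom) := by
  letI := (X.presheaf.stalkSpecializes h).hom.toAlgebra
  haveI : (RingHom.ker (Cyc.specMap y η h)).IsPrime := RingHom.ker_isPrime _
  haveI : IsLocalization.AtPrime (X.presheaf.stalk η) (RingHom.ker (Cyc.specMap y η h)) :=
    Groth.L22.Cyc.isLocalization_stalkSpecializes h
  refine (IsWeaklyRegular.isRegular_of_isLocalizedModule_of_mem (X.presheaf.stalk η)
    (RingHom.ker (Cyc.specMap y η h)) (Algebra.linearMap _ _) hgs fun g hg => ?_).toIsWeaklyRegular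
  rw [← Groth.L22.IntMult.ptPrime_asIdeal]
  exact hm g hg

open Groth.L22.IntMult (ptPrime ptPrime_asIdeal)

/-- Lengths of quotients at generizations. -/
theorem locLen_quotient_stalk {η y : X} (h : η ⤳ y) (J : Ideal (X.presheaf.stalk y)) :
    Groth.L22.QuotLength.locLen (X.presheaf.stalk y ⧸ J) (ptPrime h) =
      Module.length (X.presheaf.stalk η) (X.presheaf.stalk η ⧸ J.map (X.presheaf.stalkSpecializes h).hom) := by
  letI := (X.presheaf.stalkSpecializes h).hom.toAlgebra
  haveI : IsLocalization (ptPrime h).asIdeal.primeCompl (X.presheaf.stalk η) := by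
    haveI : (RingHom.ker (Cyc.specMap y η h)).IsPrime := RingHom.ker_isPrime _
    have h1 := Groth.L22.Cyc.isLocalization_stalkSpecializes h
    have hS : (ptPrime h).asIdeal.primeCompl = (RingHom.ker (Cyc.specMap y η h)).primeCompl :=
      Submonoid.ext fun a => by
        show a ∉ (ptPrime h).asIdeal ↔ a ∉ RingHom.ker (Cyc.specMap y η h)
        rw [ptPrime_asIdeal]
    rw [hS]
    exact h1
  have e : Submodule.localized' (X.presheaf.stalk η) (ptPrime h).asIdeal.primeCompl
      (Algebra.linearMap (X.presheaf.stalk y) (X.presheaf.stalk η)) J = J.map (X.presheaf.stalkSpecializes h).hom :=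
    Ideal.localized'_eq_map _ _ _
  rw [← (Submodule.quotEquivOfEq _ _ e).length_eq, Groth.L22.QuotLength.locLen]
  exact Groth.L11.LenSpec.length_eq_of_isLocalizedModule (ptPrime h).asIdeal.primeCompl
    (Localization.AtPrime (ptPrime h).asIdeal) (X.presheaf.stalk η)
    (LocalizedModule.mkLinearMap (ptPrime h).asIdeal.primeCompl (X.presheaf.stalk y ⧸ J))
    (Submodule.toLocalizedQuotient' (X.presheaf.stalk η) (ptPrime h).asIdeal.primeCompl
      (Algebra.linearMap (X.presheaf.stalk y) (X.presheaf.stalk η)) J)

/-- The dimension of a local ring is bounded by the dimension function. -/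
theorem dim_stalk_le [IsLocallyNoetherian X] {δ : X → ℤ} (hδ : Cyc.IsDimFun X δ) {n : ℤ}
    (hn : ∀ x, δ x ≤ n) {y : X} {r : ℕ} (hy : n ≤ δ y + r) : ringKrullDim (X.presheaf.stalk y) ≤ (r : ℕ) := by
  refine iSup_le fun l => ?_
  rw [Nat.cast_le]
  have key : ∀ i : Fin (l.length + 1), δ (X.fromSpecStalk y (l i)) + (i : ℕ) ≤ δ (X.fromSpecStalk y (l 0)) := fun i => by
    induction i using Fin.induction with
    | zero => simp
    | succ i ih =>
      have := Groth.L22.C1.delta_lt_of_lt hδ (l.step i)
      simp only [Fin.val_succ, Fin.val_castSucc] at ih ⊢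
      push_cast
      omega
  have h1 := key (Fin.last l.length)
  simp only [Fin.val_last] at h1
  have h2 := hn (X.fromSpecStalk y (l 0))
  have h3 : δ y ≤ δ (X.fromSpecStalk y (l (Fin.last l.length))) := by
    by_cases e : X.fromSpecStalk y (l (Fin.last l.length)) = y
    · rw [e]
    · exact (hδ _ _ (Groth.L22.IntMult.specializes_fromSpecStalk _) e).1.le
  omega

end Stalk

end Groth.L22.ZeroLocus
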