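import Groth.Agent.L22.ZeroLocus.Ideal
import Groth.Agent.L22.ZeroLocus.Algebra
import Groth.Agent.L22.Chern.DualClass
import Groth.Agent.L03.ShStab.RankOneEndo

/-!
The top Chern class of a filtered module, supported on the zero locus of a section.
-/

set_option autoImplicit false
set_option linter.style.haveILetI false
set_option linter.unusedSectionVars false
set_option maxSynthPendingDepth 3
set_option maxHeartbeats 1600000
set_option backward.isDefEq.respectTransparency.types false
set_option backward.isDefEq.respectTransparency false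

universe u

open CategoryTheory CategoryTheory.Limits AlgebraicGeometry TopologicalSpace IsLocalRing RingTheory.Sequence
open Groth.L22.Chern (Flag pw pw_mem emb C sec sec_ne x1_emb)
open Groth.L22.IntMult (ptPrime ptPrime_asIdeal fromSpecStalk_ptPrime eq_ptPrime specializes_fromSpecStalk)
open Groth.L22.QuotLength (supp' term locLen finite_supp' length_quot_eq length_ne_top_of_support)
open Groth.L22.C1 (IsGen mk mapSec)

noncomputable section

namespace Groth.L22.ZeroLocus

variable {X : Scheme.{u}}

/-- The ideal at `y` is generated by a regular sequence of length `r`. -/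
def Good {E : X.Modules} (s : Γ(E, ⊤)) (y : X) (r : ℕ) : Prop :=
  ∃ fs : List (X.presheaf.stalk y), IsWeaklyRegular (X.presheaf.stalk y) fs ∧
    (∀ f ∈ fs, f ∈ maximalIdeal (X.presheaf.stalk y)) ∧ fs.length = r ∧ Ideal.ofList fs = zIdeal s y

variable [IsLocallyNoetherian X] {δ : X → ℤ} (hd : Cyc.IsDimFun X δ) {n : ℤ} (hn : ∀ x, δ x ≤ n)

include hd hn in
/-- Regular sequences bound the dimension function. -/
theorem delta_le_of_regular {η y : X} (h : η ⤳ y) {gs : List (X.presheaf.stalk y)}
    (hgs : IsWeaklyRegular (X.presheaf.stalk y) gs)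
    (hm : ∀ g ∈ gs, X.presheaf.stalkSpecializes h g ∈ maximalIdeal (X.presheaf.stalk η)) :
    δ η + (gs.length : ℕ) ≤ n := by
  by_contra hlt
  have h1 := length_le_dim (isWeaklyRegular_specializes h hgs hm) fun a ha => by
    obtain ⟨g, hg, rfl⟩ := List.mem_map.1 ha
    exact hm g hg
  rw [List.length_map] at h1
  rcases Nat.eq_zero_or_pos gs.length with h0 | h0
  · have := hn η
    omega
  · have h2 := dim_stalk_le hd hn (y := η) (r := gs.length - 1) (by omega)
    have h3 : gs.length ≤ gs.length - 1 := Nat.cast_le.1 (h1.trans h2)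
    omega

include hd hn in
/-- The length of a one step intersection. -/
theorem length_step {y : X} {gs : List (X.presheaf.stalk y)} {f : X.presheaf.stalk y}
    (hy : δ y + (gs.length : ℕ) + 1 = n) (hm : ∀ g ∈ gs ++ [f], g ∈ maximalIdeal (X.presheaf.stalk y))
    (hreg : IsWeaklyRegular (X.presheaf.stalk y) (gs ++ [f])) :
    (∀ (η : X) (h : η ⤳ y), η ≠ y → (Ideal.ofList gs).map (X.presheaf.stalkSpecializes h).hom ≤ maximalIdeal _ →
      δ η + (gs.length : ℕ) = n ∧ X.presheaf.stalkSpecializes h f ∉ maximalIdeal (X.presheaf.stalk η)) ∧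
    (supp' (R := X.presheaf.stalk y) (X.presheaf.stalk y ⧸ Ideal.ofList gs)).Finite ∧
    (∀ p ∈ supp' (R := X.presheaf.stalk y) (X.presheaf.stalk y ⧸ Ideal.ofList gs),
      term f (X.presheaf.stalk y ⧸ Ideal.ofList gs) p ≠ ⊤) ∧
    Module.length (X.presheaf.stalk y) (X.presheaf.stalk y ⧸ (Ideal.ofList gs ⊔ Ideal.span {f})) =
      ∑ᶠ p ∈ supp' (R := X.presheaf.stalk y) (X.presheaf.stalk y ⧸ Ideal.ofList gs),
        term f (X.presheaf.stalk y ⧸ Ideal.ofList gs) p := by
  classical
  obtain ⟨hgs, hf⟩ := (isWeaklyRegular_append_iff (X.presheaf.stalk y) gs [f]).1 hreg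
  have hmg : ∀ g ∈ gs, g ∈ maximalIdeal (X.presheaf.stalk y) := fun g hg => hm g (List.mem_append_left _ hg)
  let e : (X.presheaf.stalk y ⧸ Ideal.ofList gs • (⊤ : Submodule (X.presheaf.stalk y) (X.presheaf.stalk y)))
      ≃ₗ[X.presheaf.stalk y] X.presheaf.stalk y ⧸ Ideal.ofList gs :=
    Submodule.quotEquivOfEq _ _ (by rw [smul_eq_mul, Ideal.mul_top])
  have hfreg : IsSMulRegular (X.presheaf.stalk y ⧸ Ideal.ofList gs) f :=
    (e.isSMulRegular_congr f).1 ((isWeaklyRegular_singleton_iff _ f).1 hf)
  have hgen : ∀ (η : X) (h : η ⤳ y), η ≠ y →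
      (Ideal.ofList gs).map (X.presheaf.stalkSpecializes h).hom ≤ maximalIdeal _ →
      δ η + (gs.length : ℕ) = n ∧ X.presheaf.stalkSpecializes h f ∉ maximalIdeal (X.presheaf.stalk η) := by
    intro η h hne hle
    have hg' : ∀ g ∈ gs, X.presheaf.stalkSpecializes h g ∈ maximalIdeal (X.presheaf.stalk η) :=
      fun g hg => hle (Ideal.mem_map_of_mem _ (Ideal.subset_span hg))
    have h1 := delta_le_of_regular hd hn h hgs hg'
    have h2 := (hd η y h hne).1
    refine ⟨by omega, fun hfm => ?_⟩
    have h3 := delta_le_of_regular hd hn h hreg fun g hg => by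
      rcases List.mem_append.1 hg with hg | hg
      · exact hg' g hg
      · rw [List.mem_singleton.1 hg]; exact hfm
    rw [List.length_append, List.length_singleton] at h3
    push_cast at h3
    omega
  have hsupp : ∀ p ∈ Module.support (X.presheaf.stalk y) (X.presheaf.stalk y ⧸ Ideal.ofList gs),
      Ideal.ofList gs ≤ p.asIdeal := fun p hp => by
    rw [Module.support_eq_zeroLocus, Ideal.annihilator_quotient] at hp
    exact hp
  have hle : ∀ (p : PrimeSpectrum (X.presheaf.stalk y)) (h : X.fromSpecStalk y p ⤳ y), Ideal.ofList gs ≤ p.asIdeal →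
      (Ideal.ofList gs).map (X.presheaf.stalkSpecializes h).hom ≤ maximalIdeal _ := fun p h hp => by
    rw [Ideal.map_le_iff_le_comap]
    exact hp.trans (congrArg PrimeSpectrum.asIdeal (eq_ptPrime (p := p) rfl h)).le
  have hne : ∀ p : PrimeSpectrum (X.presheaf.stalk y), p.asIdeal ≠ maximalIdeal _ → X.fromSpecStalk y p ≠ y :=
    fun p hp e' => hp (congrArg PrimeSpectrum.asIdeal (show p = closedPoint (X.presheaf.stalk y) from
      (X.fromSpecStalk y).isEmbedding.injective (e'.trans Scheme.fromSpecStalk_closedPoint.symm)))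
  have h0 : ∀ p ∈ Module.support (X.presheaf.stalk y) (X.presheaf.stalk y ⧸ Ideal.ofList gs), f ∈ p.asIdeal →
      p.asIdeal = maximalIdeal (X.presheaf.stalk y) := fun p hp hfp => by
    by_contra hpm
    have h := specializes_fromSpecStalk p
    exact (hgen _ h (hne p hpm) (hle p h (hsupp p hp))).2 ((congrArg PrimeSpectrum.asIdeal (eq_ptPrime (p := p) rfl h)).le hfp)
  have hsd : Module.supportDim (X.presheaf.stalk y) (X.presheaf.stalk y ⧸ Ideal.ofList gs) ≤ 1 := by
    have hdy := dim_stalk_le hd hn (y := y) (r := gs.length + 1) (by push_cast; omega)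
    rw [← Module.supportDim_self_eq_ringKrullDim, ← Groth.L04.supportDim_quotient_ofList_add hgs hmg,
      Module.supportDim_eq_of_equiv e] at hdy
    generalize Module.supportDim (X.presheaf.stalk y) (X.presheaf.stalk y ⧸ Ideal.ofList gs) = v at hdy
    cases v with
    | bot => exact bot_le
    | coe v =>
      have h' : v + (gs.length : ℕ∞) ≤ (gs.length : ℕ∞) + 1 := by exact_mod_cast hdy
      rw [add_comm v] at h'
      exact_mod_cast (ENat.addLECancellable_of_ne_top (ENat.natCast_ne_top _)).add_le_add_iff_left.1 h'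
  have hfin := finite_supp' (R := X.presheaf.stalk y) (X.presheaf.stalk y ⧸ Ideal.ofList gs) hsd
  refine ⟨hgen, hfin, fun p hp => ?_, ?_⟩
  · obtain ⟨hps, hpm⟩ := hp
    have h := specializes_fromSpecStalk p
    obtain ⟨η, hη⟩ : ∃ η, X.fromSpecStalk y p = η := ⟨_, rfl⟩
    rw [hη] at h
    have hpp : p = ptPrime h := eq_ptPrime hη h
    have hηy : η ≠ y := hη ▸ hne p hpm
    have hJ : (Ideal.ofList gs).map (X.presheaf.stalkSpecializes h).hom ≤ maximalIdeal _ := by
      subst hη; exact hle p h (hsupp p hps)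
    obtain ⟨hδη, hfη⟩ := hgen η h hηy hJ
    have h2 := (hd η y h hηy).1
    refine WithTop.mul_ne_top ?_ ?_
    · rw [Groth.L22.C1.ord_quot_congr (show p.asIdeal = RingHom.ker (Cyc.specMap y η h) by
        rw [hpp]; exact ptPrime_asIdeal h)]
      refine Groth.L22.Cyc.ord_locQuot_ne_top hd (h := h) (by omega) fun h0' => hfη ?_
      rw [Groth.L22.Cyc.specMap_eq_residue] at h0'
      exact (IsLocalRing.residue_eq_zero_iff _).1 h0'
    · rw [hpp, locLen_quotient_stalk h]
      refine length_ne_top_of_support _ fun q hq => ?_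
      rw [Module.support_eq_zeroLocus, Ideal.annihilator_quotient] at hq
      by_contra hqm
      have hζ := specializes_fromSpecStalk q
      have h4 := delta_le_of_regular hd hn (hζ.trans h) hgs fun g hg => by
        rw [← Groth.L22.C1.stalkSpecializes_comp_ring hζ h]
        exact (congrArg PrimeSpectrum.asIdeal (eq_ptPrime (p := q) rfl hζ)).le
          (hq (Ideal.mem_map_of_mem _ (Ideal.subset_span hg)))
      have h5 := (hd _ η hζ fun e' => hqm (congrArg PrimeSpectrum.asIdeal (show q = closedPoint (X.presheaf.stalk η) from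
        (X.fromSpecStalk η).isEmbedding.injective (e'.trans Scheme.fromSpecStalk_closedPoint.symm)))).1
      omega
  · have main := length_quot_eq (R := X.presheaf.stalk y) (X.presheaf.stalk y ⧸ Ideal.ofList gs) f hsd h0
    rw [LinearMap.ker_eq_bot.2 (show Function.Injective (LinearMap.lsmul _ _ f) from hfreg), Module.length_bot,
      zero_add] at main
    rw [← main]
    refine LinearEquiv.length_eq ?_
    refine ((Submodule.quotEquivOfEq _ (Submodule.map (Submodule.mkQ (Ideal.ofList gs))
      (Ideal.ofList gs ⊔ Ideal.span {f})) ?_).trans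
      (Submodule.quotientQuotientEquivQuotient (Ideal.ofList gs) (Ideal.ofList gs ⊔ Ideal.span {f}) le_sup_left)).symm
    rw [Submodule.map_sup, Submodule.mkQ_map_self, bot_sup_eq, Ideal.span, Submodule.map_span, Set.image_singleton]
    ext z
    rw [LinearMap.mem_range, Submodule.mem_span_singleton]
    constructor
    · rintro ⟨w, rfl⟩
      obtain ⟨w, rfl⟩ := Submodule.mkQ_surjective _ w
      refine ⟨w, ?_⟩
      rw [LinearMap.lsmul_apply, ← map_smul, ← map_smul, smul_eq_mul, smul_eq_mul, mul_comm]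
    · rintro ⟨c, rfl⟩
      refine ⟨Submodule.mkQ _ c, ?_⟩
      rw [LinearMap.lsmul_apply, ← map_smul, ← map_smul, smul_eq_mul, smul_eq_mul, mul_comm]

variable (hX : Cyc.IsSetup X δ) {α : AlgebraicCycle X ℤ} (hα : ⇑α = Cyc.subschemeFun δ n (𝟙 X))

include hα in
theorem fund_mem : α ∈ Cyc.Zk X δ n := fun x hx => by
  rw [hα]
  exact if_neg hx

include hn hα in
/-- The cycle on the zero locus. -/
theorem exists_locus {E : X.Modules} {ls : List X.Modules} (hfl : Flag E ls) : ∀ s : Γ(E, ⊤),
    ∃ B : AlgebraicCycle X ℤ, B ∈ Cyc.Zk X δ (n - (ls.length : ℕ)) ∧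
      C hX hfl.rank ls.length (emb δ n α) = emb δ (n - (ls.length : ℕ)) B ∧
      (∀ z, B z ≠ 0 → zIdeal s z ≤ maximalIdeal (X.presheaf.stalk z)) ∧
      ∀ y, δ y = n - (ls.length : ℕ) → Good s y ls.length →
        B y = ((Module.length (X.presheaf.stalk y) (X.presheaf.stalk y ⧸ zIdeal s y)).toNat : ℤ) := by
  classical
  induction hfl with
  | @nil E hz =>
    intro s
    have hzero : ∀ y, zIdeal s y = ⊥ := fun y => by
      rw [eq_bot_iff]
      intro a ha
      obtain ⟨φ, rfl⟩ := ha
      show φ (gm s y) ∈ (⊥ : Ideal _)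
      haveI := AddCommGrpCat.subsingleton_of_isZero (Functor.map_isZero (Groth.L00.Stk.F X y ⋙ forget₂ _ AddCommGrpCat) hz)
      rw [show gm s y = 0 from @Subsingleton.elim _ this _ _, map_zero]
      exact zero_mem _
    refine ⟨α, by simpa using fund_mem hα, ?_, fun z _ => by rw [hzero]; exact bot_le, fun y hy _ => ?_⟩
    · simp [Groth.L22.Chern.C_zero]
    · rw [hzero, hα, Groth.L22.C1.subschemeFun_id, if_pos (by simpa using hy),
        (Submodule.quotEquivOfEqBot (⊥ : Submodule (X.presheaf.stalk y) (X.presheaf.stalk y)) rfl).length_eq]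
  | @cons L E F ls hL a φ hab hex hF ih =>
    intro s
    obtain ⟨B, hBm, hBC, hBs, hBv⟩ := ih (φ.app ⊤ s)
    have hd := hX.2.2
    have hEr : FlatMod.IsFinLocFreeOfRank (ls.length + 1) E := (Flag.cons hL a φ hab hex hF).rank
    have hEf := Groth.L18.KRRAmple.isFinLocFree_of_rank hEr
    have hFf := Groth.L18.KRRAmple.isFinLocFree_of_rank hF.rank
    let u : (ξ : X) → Cyc.secFibre L ξ := fun ξ =>
      if h : ∃ v : Cyc.secFibre L ξ, v ≠ 0 ∧ mapSec a ξ v = (Submodule.Quotient.mk (gm s ξ) : Cyc.secFibre E ξ)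
      then h.choose else sec hL ξ
    have hu : ∀ ξ, u ξ ≠ 0 := fun ξ => by
      by_cases h : ∃ v : Cyc.secFibre L ξ, v ≠ 0 ∧ mapSec a ξ v = (Submodule.Quotient.mk (gm s ξ) : Cyc.secFibre E ξ)
      · simp only [u, dif_pos h]; exact h.choose_spec.1
      · simp only [u, dif_neg h]; exact sec_ne hL ξ
    have huv : ∀ {U : X.Opens} (e : Γ(L, U)) (f : Γ(X, U)) (x : X) (hx : x ∈ U),
        IsGen L (L.presheaf.germ U x hx e) →
        (zIdeal (φ.app ⊤ s) x ≤ maximalIdeal (X.presheaf.stalk x) →
          (Submodule.Quotient.mk (gm s x) : Cyc.secFibre E x) =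
            X.presheaf.germ U x hx f • mapSec a x (mk L (L.presheaf.germ U x hx e))) →
        zIdeal (φ.app ⊤ s) x ≤ maximalIdeal (X.presheaf.stalk x) →
        X.presheaf.germ U x hx f ∉ maximalIdeal (X.presheaf.stalk x) →
        u x = X.presheaf.germ U x hx f • mk L (L.presheaf.germ U x hx e) := by
      intro U e f x hx hg hrel hle hf
      have h1 := hrel hle
      rw [← map_smul] at h1
      have hne : X.presheaf.germ U x hx f • mk L (L.presheaf.germ U x hx e) ≠ 0 := by
        rw [← Submodule.Quotient.mk_smul]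
        exact fun h0 => hf ((IsLocalRing.residue_eq_zero_iff _).1 ((Groth.L22.C1.mk_smul_eq_zero_iff hL hg _).1 h0))
      have hex' : ∃ v : Cyc.secFibre L x, v ≠ 0 ∧ mapSec a x v = (Submodule.Quotient.mk (gm s x) : Cyc.secFibre E x) :=
        ⟨_, hne, h1.symm⟩
      simp only [u, dif_pos hex']
      by_contra hne'
      refine mapSec_gen_ne_zero hex hL hFf hEf x (sub_ne_zero.2 hne') ?_
      rw [map_sub, hex'.choose_spec.2, h1, sub_self]
    have hB1 : pw hd hL hu 1 B ∈ Cyc.Zk X δ (n - ((L :: ls).length : ℕ)) := by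
      have := pw_mem hd hL hu hBm 1
      rwa [show n - (ls.length : ℕ) - ((1 : ℕ) : ℤ) = n - ((L :: ls).length : ℕ) by
        rw [List.length_cons]; push_cast; ring] at this
    have hval : ∀ y, pw hd hL hu 1 B y = ∑ᶠ ξ, B ξ * Cyc.secDivFun δ L ξ (u ξ) y := fun y => by
      rw [pw, Groth.L22.Chern.cap_succ, Groth.L22.Chern.cap_zero]
      rfl
    refine ⟨pw hd hL hu 1 B, hB1, ?_, fun z hz => ?_, fun y hy hgood => ?_⟩
    · show C hX hEr (ls.length + 1) (emb δ n α) = _
      rw [Groth.L22.Chern.C_extend hX hEr hF.rank hL a φ hab hex ls.length,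
        Groth.L22.Chern.C_of_lt hX hF.rank (Nat.lt_succ_self _), zero_add]
      show Groth.L22.Chern.x1 hd hL (C hX hF.rank ls.length (emb δ n α)) = _
      rw [hBC, x1_emb hd hL hu hBm, show n - (ls.length : ℕ) - 1 = n - ((L :: ls).length : ℕ) by
        rw [List.length_cons]; push_cast; ring]
    · by_contra hzs
      refine hz ((hval z).trans (finsum_eq_zero_of_forall_eq_zero fun ξ => ?_))
      by_contra hne
      obtain ⟨h1, h2⟩ := mul_ne_zero_iff.1 hne
      obtain ⟨h, hδ'⟩ := Groth.L22.C1.secDivFun_ne_zero δ h2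
      have hFξ := hBs ξ h1
      have hFz := zIdeal_le_of_specializes hFf (φ.app ⊤ s) h hFξ
      obtain ⟨U, e, f, hzU, hU⟩ := exists_adapted hex hL hFf s z
      have hξU : ξ ∈ U := h.mem_open U.2 hzU
      obtain ⟨hgz, hIz, -⟩ := hU z hzU
      obtain ⟨hgξ, -, hrel⟩ := hU ξ hξU
      have hfz : X.presheaf.germ U z hzU f ∉ maximalIdeal (X.presheaf.stalk z) := fun hfm => hzs (by
        rw [hIz]
        exact sup_le hFz (Ideal.span_le.2 (Set.singleton_subset_iff.2 hfm)))
      have hsp : X.presheaf.germ U ξ hξU f = X.presheaf.stalkSpecializes h (X.presheaf.germ U z hzU f) :=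
        (X.presheaf.germ_stalkSpecializes_apply hzU h f).symm
      have hfu : IsUnit (X.presheaf.germ U z hzU f) := IsLocalRing.notMem_maximalIdeal.1 hfz
      have hfξ : X.presheaf.germ U ξ hξU f ∉ maximalIdeal (X.presheaf.stalk ξ) := by
        rw [hsp, IsLocalRing.notMem_maximalIdeal]
        exact hfu.map (X.presheaf.stalkSpecializes h).hom
      rw [huv e f ξ hξU hgξ hrel hFξ hfξ, ← L.presheaf.germ_stalkSpecializes_apply hzU h e, Cyc.secDivFun,
        dif_pos ⟨h, hδ'⟩, hsp, Groth.L22.C1.secOrdAt_gen hd hL h hδ' hgz, ← Groth.L22.Cyc.specMap_eq_residue,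
        Groth.L22.Cyc.ordAt_of_isUnit hd z ξ h hδ' hfu] at h2
      exact h2 rfl
    · obtain ⟨U, e, f, hyU, hU⟩ := exists_adapted hex hL hFf s y
      obtain ⟨hgy, hIy, -⟩ := hU y hyU
      obtain ⟨bs⟩ := Groth.L03.ShStab.RankOneEndo.exists_basis hF.rank y
      let gs : List (X.presheaf.stalk y) := List.ofFn fun j => bs.repr (gm (φ.app ⊤ s) y) j
      have hgs : Ideal.ofList gs = zIdeal (φ.app ⊤ s) y := by
        rw [zIdeal_eq_span_repr _ bs, Ideal.ofList]
        exact congrArg _ (Set.ext fun z => List.mem_ofFn)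
      set fy := X.presheaf.germ U y hyU f with hfy
      obtain ⟨fs, hfs, hfm, hfsl, hfse⟩ := hgood
      have hy' : δ y + (gs.length : ℕ) + 1 = n := by
        rw [List.length_cons] at hy
        simp only [gs, List.length_ofFn]
        push_cast at hy
        omega
      have hall : Ideal.ofList (gs ++ [fy]) = Ideal.ofList fs := by
        rw [hfse, hIy, Ideal.ofList_append, Ideal.ofList_singleton, hgs]
      have hdim := dim_stalk_le hd hn (y := y) (r := (L :: ls).length) (by omega)
      obtain ⟨hreg, -⟩ := sop_of_regular (gs := gs ++ [fy]) hdim hfs hfm hfsl (by simp [gs]) hall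
      have hm : ∀ g ∈ gs ++ [fy], g ∈ maximalIdeal (X.presheaf.stalk y) := fun g hg => by
        have h1 : g ∈ Ideal.ofList (gs ++ [fy]) := Ideal.subset_span hg
        rw [hall] at h1
        exact (Ideal.span_le (s := {a | a ∈ fs})).2 hfm h1
      obtain ⟨hgen, hfin, htop, hlen⟩ := length_step hd hn hy' hm hreg
      have hJ : ∀ (η : X) (h : η ⤳ y),
          (Ideal.ofList gs).map (X.presheaf.stalkSpecializes h).hom = zIdeal (φ.app ⊤ s) η := fun η h => by
        rw [hgs, zIdeal_map hFf]
      have hterm : ∀ p ∈ supp' (R := X.presheaf.stalk y) (X.presheaf.stalk y ⧸ Ideal.ofList gs),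
          ((term fy (X.presheaf.stalk y ⧸ Ideal.ofList gs) p).toNat : ℤ) =
            B (X.fromSpecStalk y p) * Cyc.secDivFun δ L (X.fromSpecStalk y p) (u _) y := by
        intro p hp
        obtain ⟨hps, hpm⟩ := hp
        obtain ⟨η, hη⟩ : ∃ η, X.fromSpecStalk y p = η := ⟨_, rfl⟩
        have h : η ⤳ y := hη ▸ specializes_fromSpecStalk p
        have hpp : p = ptPrime h := eq_ptPrime hη h
        rw [hη]
        have hηy : η ≠ y := fun e' => hpm (congrArg PrimeSpectrum.asIdeal (show p = closedPoint (X.presheaf.stalk y) from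
          (X.fromSpecStalk y).isEmbedding.injective (hη.trans (e'.trans Scheme.fromSpecStalk_closedPoint.symm))))
        rw [Module.support_eq_zeroLocus, Ideal.annihilator_quotient] at hps
        have hle : (Ideal.ofList gs).map (X.presheaf.stalkSpecializes h).hom ≤ maximalIdeal _ := by
          rw [Ideal.map_le_iff_le_comap]
          exact (show Ideal.ofList gs ≤ p.asIdeal from hps).trans (congrArg PrimeSpectrum.asIdeal hpp).le
        obtain ⟨hδη, hfη⟩ := hgen η h hηy hle
        have hδy := (hd η y h hηy).1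
        have hlt : δ y + 1 = δ η := by omega
        have hgη : Good (φ.app ⊤ s) η ls.length := by
          refine ⟨gs.map (X.presheaf.stalkSpecializes h).hom, ?_, ?_, by simp [gs], ?_⟩
          · exact isWeaklyRegular_specializes h ((isWeaklyRegular_append_iff _ gs [fy]).1 hreg).1
              fun g hg => hle (Ideal.mem_map_of_mem _ (Ideal.subset_span hg))
          · intro g hg
            obtain ⟨g', hg', rfl⟩ := List.mem_map.1 hg
            exact hle (Ideal.mem_map_of_mem _ (Ideal.subset_span hg'))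
          · rw [← Ideal.map_ofList, hJ]
        rw [hBv η (by simp only [gs, List.length_ofFn] at hδη; omega) hgη]
        have hηU : η ∈ U := h.mem_open U.2 hyU
        obtain ⟨hgη', -, hrel⟩ := hU η hηU
        have hsp : X.presheaf.germ U η hηU f = X.presheaf.stalkSpecializes h fy :=
          (X.presheaf.germ_stalkSpecializes_apply hyU h f).symm
        have hne : Cyc.specMap y η h fy ≠ 0 := fun h0 => hfη (by
          rw [Groth.L22.Cyc.specMap_eq_residue] at h0
          exact (IsLocalRing.residue_eq_zero_iff _).1 h0)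
        rw [huv e f η hηU hgη' hrel (by rw [← hJ η h]; exact hle) (by rw [hsp]; exact hfη),
          ← L.presheaf.germ_stalkSpecializes_apply hyU h e, hsp, Cyc.secDivFun, dif_pos ⟨h, hlt⟩,
          Groth.L22.C1.secOrdAt_gen hd hL h hlt hgy, ← Groth.L22.Cyc.specMap_eq_residue]
        have h5 := Groth.L22.Cyc.ordAt_div_gen hd y η h hlt (a := fy) (b := 1) hne
          (by rw [map_one]; exact one_ne_zero)
        rw [map_one, div_one, map_one, Ring.ord_one, ENat.toNat_zero, Nat.cast_zero, sub_zero] at h5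
        rw [h5, term, ENat.toNat_mul, Nat.cast_mul, mul_comm,
          Groth.L22.C1.ord_quot_congr (show p.asIdeal = RingHom.ker (Cyc.specMap y η h) by
            rw [hpp]; exact ptPrime_asIdeal h) fy]
        congr 1
        rw [hpp, locLen_quotient_stalk h, hJ]
      rw [hval, hIy, ← hgs, hlen, finsum_mem_eq_finite_toFinset_sum _ hfin,
        ENat.toNat_sum fun p hp => htop p (hfin.mem_toFinset.1 hp), Nat.cast_sum,
        Finset.sum_congr rfl fun p hp => hterm p (hfin.mem_toFinset.1 hp)]
      refine (finsum_eq_sum_of_support_subset (fun ξ => B ξ * Cyc.secDivFun δ L ξ (u ξ) y)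
          (s := hfin.toFinset.image (fun p => X.fromSpecStalk y p)) fun ξ hξ => ?_).trans
        (Finset.sum_image fun a _ b _ e => (X.fromSpecStalk y).isEmbedding.injective e)
      obtain ⟨h1, h2⟩ := mul_ne_zero_iff.1 hξ
      obtain ⟨h, hlt⟩ := Groth.L22.C1.secDivFun_ne_zero δ h2
      refine Finset.mem_coe.2 (Finset.mem_image.2 ⟨ptPrime h, hfin.mem_toFinset.2 ⟨?_, fun hm' => ?_⟩,
        fromSpecStalk_ptPrime h⟩)
      · rw [Module.support_eq_zeroLocus, Ideal.annihilator_quotient]
        intro g hg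
        have hg' := Ideal.mem_map_of_mem (X.presheaf.stalkSpecializes h).hom hg
        rw [hJ] at hg'
        exact hBs ξ h1 hg'
      · have hpm : ptPrime h = closedPoint (X.presheaf.stalk y) := PrimeSpectrum.ext hm'
        have he := fromSpecStalk_ptPrime h
        rw [hpm, Scheme.fromSpecStalk_closedPoint] at he
        rw [← he] at hlt
        omega

end Groth.L22.ZeroLocus
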